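import Mathlib
import Cfsg.Prelude.Def_LocalEven

/-!
# Recognizing `S₄` as a section

If a finite group `Γ` has a normal elementary abelian subgroup `W` of order `4` with `|Γ : C_Γ(W)| = 6`,
then `S₄` is involved in `Γ`.
-/

set_option autoImplicit false
set_option linter.unusedVariables false
set_option linter.style.haveILetI false

namespace Cfsg.Agent.Lib.SFour.Recog

open Subgroup Cfsg

/-- An injective map `A → Z` with a surjection `A → X` shows that `X` is involved in `Z`. -/
theorem involves_of_inj_surj {A Z X : Type*} [Group A] [Group Z] [Group X] (χ : A →* Z)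
    (hχ : Function.Injective χ) (σ : A →* X) (hσ : Function.Surjective σ) : Involves X Z := by
  let e := MonoidHom.ofInjective hχ
  let ρ : χ.range →* X := σ.comp e.symm.toMonoidHom
  have hρ : Function.Surjective ρ := hσ.comp e.symm.surjective
  let R : Subgroup Z := ρ.ker.map χ.range.subtype
  have hR : R.subgroupOf χ.range = ρ.ker := by
    ext x
    rw [Subgroup.mem_subgroupOf]
    constructor
    · rintro ⟨y, hy, hye⟩
      have : y = x := Subtype.ext hye
      rwa [← this]
    · intro hx
      exact ⟨x, hx, rfl⟩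
  haveI hn : (R.subgroupOf χ.range).Normal := by
    rw [hR]
    infer_instance
  refine ⟨χ.range, R, hn, ⟨?_⟩⟩
  exact (QuotientGroup.quotientMulEquivOfEq hR).trans (QuotientGroup.quotientKerEquivOfSurjective ρ hρ)

/-- From a section: a surjection from a subgroup. -/
theorem exists_subgroup_surj {H L : Type*} [Group H] [Group L] (h : Involves H L) :
    ∃ (K : Subgroup L) (π : K →* H), Function.Surjective π := by
  obtain ⟨K, R, hn, ⟨e⟩⟩ := h
  exact ⟨K, e.toMonoidHom.comp (QuotientGroup.mk' _),
    e.surjective.comp (QuotientGroup.mk'_surjective _)⟩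

/-- Involvement passes to overgroups. -/
theorem involves_of_injective {X L L₁ : Type*} [Group X] [Group L] [Group L₁] (f : L →* L₁)
    (hf : Function.Injective f) (h : Involves X L) : Involves X L₁ := by
  obtain ⟨K, π, hπ⟩ := exists_subgroup_surj h
  exact involves_of_inj_surj (f.comp K.subtype) (hf.comp K.subtype_injective) π hπ

/-- Involvement passes to extensions. -/
theorem involves_of_surjective {X L L₁ : Type*} [Group X] [Group L] [Group L₁] (f : L₁ →* L)
    (hf : Function.Surjective f) (h : Involves X L) : Involves X L₁ := by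
  obtain ⟨K, π, hπ⟩ := exists_subgroup_surj h
  let K' : Subgroup L₁ := K.comap f
  let σ : K' →* X := π.comp ((f.comp K'.subtype).codRestrict K (fun x => x.2))
  have hσ : Function.Surjective σ := by
    intro y
    obtain ⟨⟨k, hk⟩, rfl⟩ := hπ y
    obtain ⟨x, rfl⟩ := hf k
    exact ⟨⟨x, hk⟩, rfl⟩
  exact involves_of_inj_surj K'.subtype K'.subtype_injective σ hσ

variable {Γ : Type*} [Group Γ] [Finite Γ]

/-- The faithful action on 4 cosets: a subgroup `N` of index `4`, with `|X : core| ≥ 24`, gives `S₄`. -/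
theorem involves_of_index_four {X : Type*} [Group X] [Finite X] (N : Subgroup X) (hN : N.index = 4)
    (K : Subgroup X) (hK : N.normalCore ≤ K) (hKi : 24 ≤ K.index) : Involves (Equiv.Perm (Fin 4)) X := by
  classical
  have hc : Nat.card (X ⧸ N) = 4 := hN
  haveI : Finite (X ⧸ N) := inferInstance
  let e : (X ⧸ N) ≃ Fin 4 := Finite.equivFinOfCardEq hc
  let φ : X →* Equiv.Perm (X ⧸ N) := MulAction.toPermHom X (X ⧸ N)
  have hker : φ.ker = N.normalCore := by
    rw [Subgroup.normalCore_eq_ker]
  let σ : X →* Equiv.Perm (Fin 4) := (e.permCongrHom.toMonoidHom).comp φ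
  have hσker : σ.ker = N.normalCore := by
    rw [← hker]
    ext x
    simp only [σ, MonoidHom.mem_ker, MonoidHom.comp_apply]
    constructor
    · intro h
      have : e.permCongrHom (φ x) = e.permCongrHom 1 := by
        rw [map_one]; exact h
      exact e.permCongrHom.injective this
    · intro h
      rw [h]
      exact map_one _
  have hcard : Nat.card (Equiv.Perm (Fin 4)) = 24 := by
    rw [Nat.card_eq_fintype_card, Fintype.card_perm, Fintype.card_fin]
    rfl
  have hsurj : Function.Surjective σ := by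
    have h1 : Nat.card σ.range = σ.ker.index := (Subgroup.index_ker σ).symm
    have h2 : K.index ∣ σ.ker.index := by
      rw [hσker]
      exact Subgroup.index_dvd_of_le hK
    have h3 : 24 ≤ Nat.card σ.range := by
      rw [h1]
      refine hKi.trans (Nat.le_of_dvd ?_ h2)
      exact Nat.pos_of_ne_zero (Subgroup.index_ne_zero_of_finite)
    have h4 : σ.range = ⊤ := by
      apply Subgroup.eq_top_of_card_eq
      apply le_antisymm
      · exact Subgroup.card_le_card_group _
      · rw [hcard]; exact h3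
    exact MonoidHom.range_eq_top.mp h4
  have hs := QuotientGroup.quotientKerEquivOfSurjective σ hsurj
  exact involves_of_inj_surj (MonoidHom.id X) Function.injective_id σ hsurj

/-- **Recognition of `S₄`.** -/
theorem involves_perm4 (W : Subgroup Γ) [hWn : W.Normal] (hW4 : Nat.card W = 4)
    (hidx : (centralizer (W : Set Γ)).index = 6) : Involves (Equiv.Perm (Fin 4)) Γ := by
  classical
  set K := centralizer (W : Set Γ) with hK
  haveI hKn : K.Normal := by
    rw [hK]; infer_instance
  haveI h3p : Fact (Nat.Prime 3) := ⟨Nat.prime_three⟩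
  obtain ⟨P⟩ : Nonempty (Sylow 3 Γ) := inferInstance
  have hPK : ¬ (P : Subgroup Γ) ≤ K := by
    intro h
    have h1 := Subgroup.index_dvd_of_le h
    rw [hidx] at h1
    exact P.not_dvd_index (dvd_trans (by norm_num : 3 ∣ 6) h1)
  -- the subgroup of index two
  set L : Subgroup Γ := (P : Subgroup Γ) ⊔ K with hL
  have hKL : K ≤ L := le_sup_right
  have hPL : (P : Subgroup Γ) ≤ L := le_sup_left
  have hLidx : L.index = 2 := by
    have h1 := Subgroup.relIndex_mul_index hKL
    rw [hidx] at h1
    have h2 : K.relIndex L = K.relIndex (P : Subgroup Γ) := by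
      rw [hL, sup_comm]
      exact Subgroup.relIndex_sup_left _ _
    have h3 : K.relIndex (P : Subgroup Γ) ∣ Nat.card (P : Subgroup Γ) := by
      exact Subgroup.index_dvd_card _
    obtain ⟨n, hn⟩ := IsPGroup.iff_card.mp P.isPGroup'
    rw [hn] at h3
    obtain ⟨a, -, ha⟩ := (Nat.dvd_prime_pow Nat.prime_three).mp h3
    rw [h2, ha] at h1
    have h4 : ¬ 3 ∣ L.index := fun h => P.not_dvd_index (h.trans (Subgroup.index_dvd_of_le hPL))
    rcases a with _ | _ | a
    · simp only [pow_zero, one_mul] at h1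
      rw [h1] at h4
      exact absurd (by norm_num) h4
    · simp only [zero_add, pow_one] at h1
      omega
    · exfalso
      have h5 : 9 ∣ 6 := by
        rw [← h1]
        refine Dvd.dvd.mul_right ?_ _
        exact ⟨3 ^ a, by ring⟩
      omega
  haveI hLn : L.Normal := Subgroup.normal_of_index_eq_two hLidx
  -- the Frattini argument
  let P₀ : Sylow 3 L := P.subtype hPL
  have hP₀ : (P₀ : Subgroup L).map L.subtype = (P : Subgroup Γ) := by
    show ((P : Subgroup Γ).subgroupOf L).map L.subtype = _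
    rw [Subgroup.subgroupOf_map_subtype, inf_of_le_left hPL]
  have hframe := Sylow.normalizer_sup_eq_top (N := L) P₀
  rw [hP₀] at hframe
  set N := normalizer ((P : Subgroup Γ) : Set Γ) with hN
  have hPN : (P : Subgroup Γ) ≤ N := Subgroup.le_normalizer
  have hNK : N ⊔ K = ⊤ := by
    rw [eq_top_iff, ← hframe]
    exact sup_le le_sup_left (sup_le (hPN.trans le_sup_left) le_sup_right)
  -- no fixed points of `P` on `W`
  have hfix : W ⊓ centralizer ((P : Subgroup Γ) : Set Γ) = ⊥ := by
    letI : MulAction ↥(P : Subgroup Γ) ↥W :=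
      MulAction.compHom ↥W ((MulAut.conjNormal (H := W)).comp (P : Subgroup Γ).subtype)
    have hact : ∀ (y : ↥(P : Subgroup Γ)) (w : ↥W), ((y • w : ↥W) : Γ) = y * w * (y : Γ)⁻¹ := by
      intro y w
      rfl
    have hmod := IsPGroup.card_modEq_card_fixedPoints (α := ↥W) P.isPGroup'
    let W₁ : Subgroup ↥W := (centralizer ((P : Subgroup Γ) : Set Γ)).subgroupOf W
    have hW₁ : MulAction.fixedPoints ↥(P : Subgroup Γ) ↥W = (W₁ : Set ↥W) := by
      ext w
      simp only [MulAction.mem_fixedPoints, SetLike.mem_coe]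
      rw [Subgroup.mem_subgroupOf, Subgroup.mem_centralizer_iff]
      constructor
      · intro h y hy
        have h1 := congrArg Subtype.val (h ⟨y, hy⟩)
        rw [hact] at h1
        simp only at h1
        have h2 : y * (w : Γ) = w * y := mul_inv_eq_iff_eq_mul.mp h1
        exact h2
      · intro h y
        apply Subtype.ext
        rw [hact]
        have h1 := h y y.2
        rw [h1]
        simp
    have hc1 : Nat.card (MulAction.fixedPoints ↥(P : Subgroup Γ) ↥W) = Nat.card W₁ := by
      rw [hW₁]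
      rfl
    rw [hc1, hW4] at hmod
    have hdvd : Nat.card W₁ ∣ 4 := by
      rw [← hW4]
      exact Subgroup.card_subgroup_dvd_card W₁
    have hle : Nat.card W₁ ≤ 4 := Nat.le_of_dvd (by norm_num) hdvd
    have hpos : 0 < Nat.card W₁ := Nat.card_pos
    have hcases : Nat.card W₁ = 1 ∨ Nat.card W₁ = 4 := by
      have : Nat.card W₁ % 3 = 1 := by
        have h5 := hmod.symm
        unfold Nat.ModEq at h5
        omega
      omega
    rcases hcases with h1 | h4
    · have hbot : W₁ = ⊥ := Subgroup.eq_bot_of_card_eq _ h1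
      rw [eq_bot_iff]
      intro w hw
      have h2 : (⟨w, hw.1⟩ : ↥W) ∈ W₁ := Subgroup.mem_subgroupOf.mpr hw.2
      rw [hbot, Subgroup.mem_bot] at h2
      exact congrArg Subtype.val h2
    · exfalso
      have htop : W₁ = ⊤ := Subgroup.eq_top_of_card_eq _ (by rw [h4, hW4])
      apply hPK
      intro y hy
      rw [hK, Subgroup.mem_centralizer_iff]
      intro w hw
      have h2 : (⟨w, hw⟩ : ↥W) ∈ W₁ := by rw [htop]; trivial
      have h3 := Subgroup.mem_subgroupOf.mp h2
      exact (Subgroup.mem_centralizer_iff.mp h3 y hy).symm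
  -- `N ∩ W = 1`
  have hPW : (P : Subgroup Γ) ⊓ W = ⊥ := by
    apply disjoint_iff.mp
    apply Subgroup.disjoint_of_coprime_natCard
    obtain ⟨n, hn⟩ := IsPGroup.iff_card.mp P.isPGroup'
    rw [hn, hW4]
    exact Nat.Coprime.pow_left _ (by norm_num)
  have hNW : N ⊓ W = ⊥ := by
    rw [eq_bot_iff, ← hfix]
    intro w hw
    obtain ⟨hwN, hwW⟩ := Subgroup.mem_inf.mp hw
    refine Subgroup.mem_inf.mpr ⟨hwW, ?_⟩
    rw [Subgroup.mem_centralizer_iff]
    intro y hy
    have h1 : w * y * w⁻¹ * y⁻¹ ∈ (P : Subgroup Γ) :=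
      Subgroup.mul_mem _ ((Subgroup.mem_normalizer_iff.mp hwN y).mp hy) (Subgroup.inv_mem _ hy)
    have h2 : w * y * w⁻¹ * y⁻¹ ∈ W := by
      have h3 : y * w⁻¹ * y⁻¹ ∈ W := hWn.conj_mem _ (W.inv_mem hwW) y
      have h4 := W.mul_mem hwW h3
      have h5 : w * (y * w⁻¹ * y⁻¹) = w * y * w⁻¹ * y⁻¹ := by group
      rwa [h5] at h4
    have h3 : w * y * w⁻¹ * y⁻¹ ∈ (P : Subgroup Γ) ⊓ W := Subgroup.mem_inf.mpr ⟨h1, h2⟩
    rw [hPW, Subgroup.mem_bot] at h3
    have h4 : w * y = y * w := by
      have h5 : w * y * w⁻¹ = y := mul_inv_eq_one.mp h3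
      exact mul_inv_eq_iff_eq_mul.mp h5
    exact h4.symm
  -- the group `X = N W`
  set X : Subgroup Γ := N ⊔ W with hX
  have hNX : N ≤ X := le_sup_left
  have hWX : W ≤ X := le_sup_right
  have hcardX : Nat.card X = 4 * Nat.card N := by
    have h1 : W.relIndex X = W.relIndex N := by
      rw [hX, sup_comm]
      exact Subgroup.relIndex_sup_left _ _
    have h2 : W.relIndex N = Nat.card N := by
      have : W.subgroupOf N = ⊥ := by
        rw [eq_bot_iff]
        intro x hx
        have h3 : (x : Γ) ∈ N ⊓ W := Subgroup.mem_inf.mpr ⟨x.2, Subgroup.mem_subgroupOf.mp hx⟩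
        rw [hNW, Subgroup.mem_bot] at h3
        exact (Subgroup.mem_bot).mpr (Subtype.ext h3)
      rw [Subgroup.relIndex, this, Subgroup.index_bot]
    have h3 := (W.subgroupOf X).card_mul_index
    rw [Nat.card_congr (Subgroup.subgroupOfEquivOfLe hWX).toEquiv, hW4] at h3
    have h4 : (W.subgroupOf X).index = Nat.card N := by
      rw [← h2, ← h1]
      rfl
    rw [h4] at h3
    exact h3.symm
  have hidxN : (N.subgroupOf X).index = 4 := by
    have h3 := (N.subgroupOf X).card_mul_index
    rw [Nat.card_congr (Subgroup.subgroupOfEquivOfLe hNX).toEquiv, hcardX, mul_comm 4] at h3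
    exact Nat.eq_of_mul_eq_mul_left Nat.card_pos h3
  -- the index of `N ∩ K`
  have hidxNK : (N ⊓ K).relIndex N = 6 := by
    have h1 : K.relIndex (N ⊔ K) = K.relIndex N := by
      rw [sup_comm]
      exact Subgroup.relIndex_sup_left _ _
    rw [hNK, Subgroup.relIndex_top_right, hidx] at h1
    rw [h1, inf_comm]
    exact Subgroup.inf_relIndex_right _ _
  have hcardNK : Nat.card N = 6 * Nat.card ↥(N ⊓ K) := by
    have h3 := Subgroup.card_mul_index ((N ⊓ K).subgroupOf N)
    rw [Nat.card_congr (Subgroup.subgroupOfEquivOfLe (inf_le_left : N ⊓ K ≤ N)).toEquiv] at h3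
    have h4 : ((N ⊓ K).subgroupOf N).index = 6 := hidxNK
    rw [h4] at h3
    rw [← h3, mul_comm]
  refine involves_of_injective X.subtype X.subtype_injective ?_
  refine involves_of_index_four (N.subgroupOf X) hidxN ((N ⊓ K).subgroupOf X) ?_ ?_
  · -- the core centralizes `W`
    intro c hc
    have hcN : c ∈ N.subgroupOf X := Subgroup.normalCore_le _ hc
    have hcN' : (c : Γ) ∈ N := Subgroup.mem_subgroupOf.mp hcN
    rw [Subgroup.mem_subgroupOf]
    refine Subgroup.mem_inf.mpr ⟨hcN', ?_⟩
    rw [hK, Subgroup.mem_centralizer_iff]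
    intro w hw
    have h1 : (⟨w, hWX hw⟩ : ↥X) * c⁻¹ * (⟨w, hWX hw⟩ : ↥X)⁻¹ ∈ (N.subgroupOf X).normalCore :=
      (Subgroup.normalCore_normal _).conj_mem _ (inv_mem hc) _
    have h2 := Subgroup.mem_subgroupOf.mp (Subgroup.normalCore_le _ h1)
    have h3 : (c : Γ) * (w * (c : Γ)⁻¹ * w⁻¹) ∈ N := N.mul_mem hcN' (by simpa using h2)
    have h4 : (c : Γ) * w * (c : Γ)⁻¹ * w⁻¹ ∈ W := by
      have h5 : (c : Γ) * w * (c : Γ)⁻¹ ∈ W := hWn.conj_mem _ hw _
      exact W.mul_mem h5 (W.inv_mem hw)
    have h5 : (c : Γ) * w * (c : Γ)⁻¹ * w⁻¹ ∈ N ⊓ W := by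
      refine Subgroup.mem_inf.mpr ⟨?_, h4⟩
      have h6 : (c : Γ) * (w * (c : Γ)⁻¹ * w⁻¹) = (c : Γ) * w * (c : Γ)⁻¹ * w⁻¹ := by group
      rwa [h6] at h3
    rw [hNW, Subgroup.mem_bot] at h5
    have h6 : (c : Γ) * w * (c : Γ)⁻¹ = w := mul_inv_eq_one.mp h5
    exact (mul_inv_eq_iff_eq_mul.mp h6).symm
  · -- the index is at least `24`
    have h1 := ((N ⊓ K).subgroupOf X).card_mul_index
    rw [Nat.card_congr (Subgroup.subgroupOfEquivOfLe (inf_le_left.trans hNX : N ⊓ K ≤ X)).toEquiv,
      hcardX, hcardNK] at h1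
    have hpos : 0 < Nat.card ↥(N ⊓ K) := Nat.card_pos
    have h2 : ((N ⊓ K).subgroupOf X).index = 24 := by
      apply Nat.eq_of_mul_eq_mul_left hpos
      rw [h1]
      ring
    omega

end Cfsg.Agent.Lib.SFour.Recog
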