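import Mathlib
import Cfsg.Agent.Lib.SFour.Recog
import Cfsg.Agent.Lib.PGroup.FFStruct
import Cfsg.Agent.Lib.PGroup.FFTrans
import Cfsg.Agent.Lib.PGroup.WeakRepl
import Cfsg.Agent.Lib.PGroup.ZJ
import Cfsg.Agent.Lib.Solvable.PSeries
import Cfsg.Agent.Lib.Solvable.Stability
import Cfsg.Agent.Lib.Transfer.Basic

/-!
# Best offenders in `S₄`-free groups

A nontrivial best offender on a normal elementary abelian `2`-subgroup `V` of a `2`-soluble group
with `O₂(G / C_G(V)) = 1` forces `S₄` to be involved in `G`.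
-/

set_option autoImplicit false
set_option linter.unusedVariables false
set_option linter.style.haveILetI false
set_option linter.unusedSectionVars false

namespace Cfsg.Agent.Lib.SFour.Offender

open Subgroup Cfsg
open scoped commutatorElement
open Cfsg.Agent.Lib.SFour.Recog
open Cfsg.Agent.Lib.PGroup.Timmesfeld Cfsg.Agent.Lib.PGroup.FFPair Cfsg.Agent.Lib.PGroup.FFTv
  Cfsg.Agent.Lib.PGroup.FFDuo Cfsg.Agent.Lib.PGroup.FFDich Cfsg.Agent.Lib.PGroup.FFStruct
  Cfsg.Agent.Lib.PGroup.FFTrans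

variable {G : Type*} [Group G] [Finite G]

theorem card_SL2_two : Nat.card (Matrix.SpecialLinearGroup (Fin 2) (ZMod 2)) = 6 := by
  rw [Nat.card_eq_fintype_card]
  decide

/-- A best offender acting nontrivially gives a section `S₄`. -/
theorem involves_of_best_offender (V : Subgroup G) [hVn : V.Normal]
    (hV : Cfsg.IsElementaryAbelian 2 V) (hsol : Cfsg.IsPSolvable 2 G)
    (hOC : ∀ D : Subgroup G, D.Normal → Subgroup.centralizer (V : Set G) ≤ D →
      (∃ k : ℕ, (Subgroup.centralizer (V : Set G)).relIndex D = 2 ^ k) →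
      D = Subgroup.centralizer (V : Set G))
    {B : Subgroup G} (hB : Cfsg.IsBestOffenderOn 2 V B) (hBV : ⁅V, B⁆ ≠ ⊥) :
    Cfsg.Involves (Equiv.Perm (Fin 4)) G := by
  classical
  haveI : Fact (Nat.Prime 2) := ⟨Nat.prime_two⟩
  set H : Subgroup (TT V) := (⊤ : Subgroup G).map (pi V) with hH
  have hS1 : Subgroup.centralizer (Cfsg.pPrimeCore 2 ↥H : Set ↥H) ≤ Cfsg.pPrimeCore 2 ↥H := by
    apply Cfsg.Agent.Lib.Solvable.Stability.centralizer_pPrimeCore_le
    · have h1 : Cfsg.IsPSolvable 2 ↥(⊤ : Subgroup G) :=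
        Cfsg.Agent.Lib.Coprime.PSolvable.isPSolvable_subgroup Nat.prime_two _ hsol
      exact Cfsg.Agent.Lib.Coprime.PSolvable.isPSolvable_of_surjective Nat.prime_two
        ((pi V).subgroupMap ⊤) ((pi V).subgroupMap_surjective ⊤) h1
    · exact pCore_map_eq_bot hOC ⊤
  have S : Setup 2 (V0 V) H :=
    ⟨isEA_V0 hV, map_le_normalizer_V0 ⊤, map_inf_centralizer_eq_bot ⊤, hS1⟩
  -- a minimal best offender
  let 𝓜 : Set (Subgroup (TT V)) := {C | C ≤ B.map (pi V) ∧ Cfsg.IsBestOffenderOn 2 (V0 V) C ∧ ⁅V0 V, C⁆ ≠ ⊥}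
  have hBne : ⁅V0 V, B.map (pi V)⁆ ≠ ⊥ := by
    intro h
    have h1 := card_commutator_up (V := V) B
    rw [h, Subgroup.card_bot] at h1
    exact hBV (Subgroup.eq_bot_of_card_eq _ h1.symm)
  have h𝓜 : 𝓜.Nonempty := ⟨B.map (pi V), le_rfl, isBestOffender_map hB, hBne⟩
  obtain ⟨A₁, hA₁𝓜, hA₁min⟩ := Set.exists_min_image 𝓜 (fun C => Nat.card C) (Set.toFinite _) h𝓜
  obtain ⟨hA₁B, hA₁, hA₁ne⟩ := hA₁𝓜
  have hBH : B.map (pi V) ≤ H := Subgroup.map_mono le_top
  have hmin : ∀ C : Subgroup (TT V), C ≤ A₁ → Cfsg.IsBestOffenderOn 2 (V0 V) C → ⁅V0 V, C⁆ ≠ ⊥ → C = A₁ := by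
    intro C hC hCb hCne
    have h1 := hA₁min C ⟨hC.trans hA₁B, hCb, hCne⟩
    exact Subgroup.eq_of_le_of_card_ge hC h1
  obtain ⟨a, -, ha⟩ := isTv_of_minimal S (hA₁B.trans hBH) hA₁ hA₁ne hmin
  obtain ⟨x, hx, D⟩ := exists_duo S ha
  set b := x * a * x⁻¹ with hb
  -- the subgroup `E ≅ SL(2,2)`
  obtain ⟨d₁, d₂, f, -⟩ := exists_equiv_E S D
  have hE6 : Nat.card (EE a b) = 6 := by
    rw [Nat.card_congr f.toEquiv]
    exact card_SL2_two
  have hEH : EE a b ≤ H := EE_le D
  have hWcard : Nat.card (WW (V0 V) a b) = 4 := by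
    rw [card_W S D]; norm_num
  have hEinf := E_inf_centralizer S D
  -- pulling back to `G`
  set Ê : Subgroup G := (EE a b).comap (pi V) with hÊ
  have hÊmap : Ê.map (pi V) = EE a b := by
    apply le_antisymm
    · rintro _ ⟨y, hy, rfl⟩
      exact hy
    · intro y hy
      obtain ⟨z, -, rfl⟩ := hEH hy
      exact ⟨z, hy, rfl⟩
  have hVc : ∀ x ∈ V, ∀ y ∈ V, x * y = y * x := by
    intro x hx y hy
    have := hV.1.is_comm.comm (⟨x, hx⟩ : V) ⟨y, hy⟩
    exact congrArg Subtype.val this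
  have hVÊ : V ≤ Ê := by
    intro v hv
    rw [hÊ, Subgroup.mem_comap, (pi_eq_one_iff v).mpr (Subgroup.mem_centralizer_iff.mpr fun y hy => hVc y hy v hv)]
    exact Subgroup.one_mem _
  have hcomm : ⁅V0 V, EE a b⁆ = up (V := V) ⁅V, Ê⁆ := by
    rw [← commutator_up, hÊmap]
  have hWup : WW (V0 V) a b = up (V := V) ⁅V, Ê⁆ := by
    rw [← comm_W S D, hcomm]
  have hW₀card : Nat.card ↥⁅V, Ê⁆ = 4 := by
    have h1 := card_commutator_up (V := V) Ê
    rw [hÊmap, comm_W S D, hWcard] at h1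
    exact h1.symm
  -- inside `Ê`
  let V₁ : Subgroup ↥Ê := V.subgroupOf Ê
  haveI hV₁n : V₁.Normal := Subgroup.Normal.subgroupOf hVn Ê
  let W₁ : Subgroup ↥Ê := ⁅V₁, (⊤ : Subgroup ↥Ê)⁆
  haveI hW₁n : W₁.Normal := Subgroup.commutator_normal _ _
  have hW₁map : W₁.map Ê.subtype = ⁅V, Ê⁆ := by
    rw [Subgroup.map_commutator]
    congr 1
    · rw [Subgroup.subgroupOf_map_subtype, inf_of_le_left hVÊ]
    · rw [← MonoidHom.range_eq_map, Subgroup.range_subtype]
  have hW₁card : Nat.card W₁ = 4 := by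
    rw [← hW₀card, ← hW₁map]
    exact Nat.card_congr (Subgroup.equivMapOfInjective _ _ Ê.subtype_injective).toEquiv
  let ρ : ↥Ê →* TT V := (pi V).comp Ê.subtype
  have hρrange : ρ.range = EE a b := by
    rw [MonoidHom.range_comp, Subgroup.range_subtype, hÊmap]
  have hρker : ρ.ker = centralizer (W₁ : Set ↥Ê) := by
    ext y
    rw [MonoidHom.mem_ker]
    constructor
    · intro hy
      have hy1 : (y : G) ∈ centralizer (V : Set G) := (pi_eq_one_iff _).mp hy
      rw [Subgroup.mem_centralizer_iff]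
      intro w hw
      have h1 : (w : G) ∈ ⁅V, Ê⁆ := by
        rw [← hW₁map]
        exact ⟨w, hw, rfl⟩
      have h2 : (w : G) ∈ V := commutator_le_V Ê h1
      apply Subtype.ext
      exact (Subgroup.mem_centralizer_iff.mp hy1) w h2
    · intro hy
      have hy1 : (pi V (y : G)) ∈ EE a b := y.2
      have hy2 : pi V (y : G) ∈ Subgroup.centralizer ((WW (V0 V) a b : Subgroup (TT V)) : Set (TT V)) := by
        rw [Subgroup.mem_centralizer_iff]
        intro u hu
        rw [hWup] at hu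
        obtain ⟨w, hw, rfl⟩ := hu
        have hw' : (w : G) ∈ ⁅V, Ê⁆ := Subgroup.mem_subgroupOf.mp hw
        rw [← hW₁map] at hw'
        obtain ⟨w₁, hw₁, hw₁e⟩ := hw'
        have h3 := Subgroup.mem_centralizer_iff.mp hy w₁ hw₁
        have h4 : (w : G) * y = y * w := by
          have h5 := congrArg Subtype.val h3
          simp only [Subgroup.coe_mul] at h5
          rw [Subgroup.coe_subtype] at hw₁e
          rw [hw₁e] at h5
          exact h5
        exact ((commute_iff (y : G) w).mpr h4.symm).symm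
      have h6 := Subgroup.mem_inf.mpr ⟨hy1, hy2⟩
      rw [hEinf, Subgroup.mem_bot] at h6
      exact h6
  have hidx : (centralizer (W₁ : Set ↥Ê)).index = 6 := by
    rw [← hρker, Subgroup.index_ker, hρrange, hE6]
  exact involves_of_injective Ê.subtype Ê.subtype_injective (involves_perm4 W₁ hW₁card hidx)

/-- An element of odd order fixing `Ω₁` of an abelian `2`-group fixes the group. -/
theorem fix_of_fix_omega {D : Subgroup G} (hDc : ∀ x ∈ D, ∀ y ∈ D, x * y = y * x) (hDp : IsPGroup 2 D)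
    {x : G} (hxD : ∀ d ∈ D, x * d * x⁻¹ ∈ D) (hodd : (orderOf x).Coprime 2)
    (hfix : ∀ v ∈ D, v * v = 1 → x * v * x⁻¹ = v) : ∀ d ∈ D, x * d * x⁻¹ = d := by
  have key : ∀ k : ℕ, ∀ d ∈ D, d ^ (2 ^ k) = 1 → x * d * x⁻¹ = d := by
    intro k
    induction k with
    | zero =>
      intro d hd h
      rw [pow_zero, pow_one] at h
      simp [h]
    | succ k ih =>
      intro d hd h
      have h2 : x * (d * d) * x⁻¹ = d * d :=
        ih (d * d) (mul_mem hd hd) (by rw [← pow_two, ← pow_mul, ← pow_succ']; exact h)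
      set e := x * d * x⁻¹ with he
      have heD : e ∈ D := hxD d hd
      set c := e * d⁻¹ with hc
      have hcD : c ∈ D := mul_mem heD (inv_mem hd)
      have h3 : e * e = d * d := by
        rw [he]
        calc x * d * x⁻¹ * (x * d * x⁻¹) = x * (d * d) * x⁻¹ := by group
          _ = d * d := h2
      have hcc : c * c = 1 := by
        calc c * c = e * (d⁻¹ * e) * d⁻¹ := by rw [hc]; group
          _ = e * (e * d⁻¹) * d⁻¹ := by rw [hDc d⁻¹ (inv_mem hd) e heD]
          _ = (e * e) * (d * d)⁻¹ := by group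
          _ = 1 := by rw [h3]; group
      have hcfix : x * c * x⁻¹ = c := hfix c hcD hcc
      have hedc : e = c * d := by rw [hc]; group
      have hpow : ∀ n : ℕ, x ^ n * d * (x ^ n)⁻¹ = c ^ n * d := by
        intro n
        induction n with
        | zero => simp
        | succ n ihn =>
          have h4 : x * c ^ n * x⁻¹ = c ^ n := by
            rw [← conj_pow, hcfix]
          calc x ^ (n + 1) * d * (x ^ (n + 1))⁻¹ = x * (x ^ n * d * (x ^ n)⁻¹) * x⁻¹ := by
                rw [pow_succ']; group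
            _ = x * (c ^ n * d) * x⁻¹ := by rw [ihn]
            _ = (x * c ^ n * x⁻¹) * (x * d * x⁻¹) := by group
            _ = c ^ n * (c * d) := by rw [h4, ← he, hedc]
            _ = c ^ (n + 1) * d := by rw [pow_succ]; group
      have h5 := hpow (orderOf x)
      rw [pow_orderOf_eq_one, one_mul, inv_one, mul_one] at h5
      have h6 : c ^ orderOf x = 1 := by
        have : c ^ orderOf x * d = 1 * d := by rw [← h5, one_mul]
        exact mul_right_cancel this
      have h7 : c = 1 := by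
        have hoddx : Odd (orderOf x) := Nat.Coprime.odd_of_right hodd
        obtain ⟨m, hm⟩ := hoddx
        rw [hm, pow_succ, pow_mul, pow_two, hcc, one_pow, one_mul] at h6
        exact h6
      rw [hedc, h7, one_mul]
  intro d hd
  obtain ⟨k, hk⟩ := hDp ⟨d, hd⟩
  exact key k d hd (by simpa using congrArg Subtype.val hk)

/-- The normal `p`-complement of a normal subgroup. -/
theorem exists_normal_compl {p : ℕ} [hp : Fact p.Prime] (C : Subgroup G) [hC : C.Normal]
    (h : Cfsg.HasNormalPComplement p C) :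
    ∃ M : Subgroup G, M.Normal ∧ M ≤ C ∧ (Nat.card M).Coprime p ∧
      (∀ x ∈ C, ∃ k : ℕ, x ^ (p ^ k) ∈ M) ∧ ∀ x ∈ C, (orderOf x).Coprime p → x ∈ M := by
  classical
  obtain ⟨N, hn, h1, h2⟩ := Cfsg.Agent.Lib.Transfer.Basic.hasNormalPComplement_iff.mp h
  have hmem := Cfsg.Agent.Lib.Transfer.Basic.mem_iff_coprime_of_normal N h1 h2
  have hMC : N.map C.subtype ≤ C := Subgroup.map_subtype_le _
  have hmem2 : ∀ x (hx : x ∈ C), (orderOf x).Coprime p → x ∈ N.map C.subtype := by
    intro x hx hc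
    refine ⟨⟨x, hx⟩, ?_, rfl⟩
    refine (hmem ⟨x, hx⟩).mpr ?_
    have : orderOf (⟨x, hx⟩ : C) = orderOf x := Subgroup.orderOf_mk x hx
    rwa [this]
  have hcN : Nat.card (N.map C.subtype) = Nat.card N :=
    (Nat.card_congr (Subgroup.equivMapOfInjective _ _ C.subtype_injective).toEquiv).symm
  have hord : ∀ x ∈ N.map C.subtype, (orderOf x).Coprime p := by
    intro x hx
    exact Nat.Coprime.coprime_dvd_left (Subgroup.orderOf_dvd_natCard _ hx) (by rw [hcN]; exact h1)
  refine ⟨N.map C.subtype, ⟨fun x hx g => ?_⟩, hMC, by rw [hcN]; exact h1, ?_, hmem2⟩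
  · apply hmem2 _ (hC.conj_mem x (hMC hx) g)
    rw [Cfsg.Agent.Lib.Transfer.Basic.orderOf_conj_eq]
    exact hord x hx
  · intro x hx
    obtain ⟨k, hk⟩ := h2 ((⟨x, hx⟩ : C) : C ⧸ N)
    refine ⟨k, ?_⟩
    rw [← QuotientGroup.mk_pow, QuotientGroup.eq_one_iff] at hk
    exact ⟨_, hk, by simp⟩

/-- If `X ≤ [X, Y]` inside a `p`-group then `X = 1`. -/
theorem eq_bot_of_le_comm_pGroup {p : ℕ} [hp : Fact p.Prime] {T X Y : Subgroup G} (hT : IsPGroup p T)
    (hXT : X ≤ T) (hYT : Y ≤ T) (h : X ≤ ⁅X, Y⁆) : X = ⊥ := by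
  have hnil : Group.IsNilpotent ↥T := hT.isNilpotent
  obtain ⟨n, hn⟩ := (Subgroup.isNilpotent_iff_lowerCentralSeries T).1 hnil
  have hser : ∀ m : ℕ, X ≤ T.lowerCentralSeries m := by
    intro m
    induction m with
    | zero => exact hXT
    | succ m ih =>
      rw [Subgroup.lowerCentralSeries_succ]
      exact h.trans (Subgroup.commutator_mono ih hYT)
  have := hser n
  rw [hn] at this
  exact le_bot_iff.1 this

/-- Replacement: a quadratic best offender inside an offending abelian subgroup. -/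
theorem exists_best_offender {V A T : Subgroup G} (hV : Cfsg.IsElementaryAbelian 2 V)
    (hAV : A ≤ normalizer (V : Set G)) (hAc : ∀ x ∈ A, ∀ y ∈ A, x * y = y * x)
    (hT : IsPGroup 2 T) (hAT : A ≤ T) (hVT : V ≤ T)
    (hval : mval V (A ⊓ centralizer (V : Set G)) ≤ mval V A) (hne : ¬ A ≤ centralizer (V : Set G)) :
    ∃ B : Subgroup G, B ≤ A ∧ Cfsg.IsBestOffenderOn 2 V B ∧ ⁅V, B⁆ ≠ ⊥ := by
  classical
  haveI : Fact (Nat.Prime 2) := ⟨Nat.prime_two⟩
  have hVc : ∀ x ∈ V, ∀ y ∈ V, x * y = y * x := by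
    intro x hx y hy
    have := hV.1.is_comm.comm (⟨x, hx⟩ : V) ⟨y, hy⟩
    exact congrArg Subtype.val this
  have hVp : ∀ v ∈ V, v * v = 1 := fun v hv => by
    have := hV.2 v hv
    rwa [pow_two] at this
  obtain ⟨B₀, hB₀, hmax₀⟩ := Set.exists_max_image {B : Subgroup G | B ≤ A} (mval V) (Set.toFinite _)
    ⟨A, le_refl A⟩
  have hB₀A : B₀ ≤ A := hB₀
  have hex : ∃ B₁ : Subgroup G, B₁ ≤ A ∧ ¬ B₁ ≤ centralizer (V : Set G) ∧
      ∀ B : Subgroup G, B ≤ B₁ → mval V B ≤ mval V B₁ := by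
    by_cases hB₀C : B₀ ≤ centralizer (V : Set G)
    · refine ⟨A, le_rfl, hne, fun B hB => ?_⟩
      refine (hmax₀ B hB).trans (le_trans ?_ hval)
      have h1 : Nat.card B₀ ≤ Nat.card ↥(A ⊓ centralizer (V : Set G)) :=
        Subgroup.card_le_of_le (le_inf hB₀A hB₀C)
      have h2 : V ⊓ centralizer ((A ⊓ centralizer (V : Set G) : Subgroup G) : Set G) = V := by
        apply inf_eq_left.mpr
        intro v hv
        rw [Subgroup.mem_centralizer_iff]
        intro a ha
        exact (Subgroup.mem_centralizer_iff.mp ha.2 v hv).symm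
      have h3 : Nat.card ↥(V ⊓ centralizer (B₀ : Set G)) ≤ Nat.card V := Subgroup.card_le_of_le inf_le_left
      simp only [mval]
      rw [h2]
      exact Nat.mul_le_mul h1 h3
    · exact ⟨B₀, hB₀A, hB₀C, fun B hB => hmax₀ B (hB.trans hB₀A)⟩
  obtain ⟨B₁, hB₁A, hB₁C, hB₁max⟩ := hex
  have hB₁comm : ⁅B₁, B₁⁆ = ⊥ := by
    rw [Subgroup.commutator_eq_bot_iff_le_centralizer]
    intro x hx
    rw [Subgroup.mem_centralizer_iff]
    intro y hy
    exact hAc y (hB₁A hy) x (hB₁A hx)
  have hab : ⁅B₁, B₁⁆ ≤ centralizer (V : Set G) := by rw [hB₁comm]; exact bot_le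
  obtain ⟨-, h2, h3⟩ := Q_commutator hVc (hB₁A.trans hAV) hab hB₁max (le_refl V)
  set X : Subgroup G := ⁅V, B₁⁆ with hX
  have hXV : X ≤ V := by
    rw [hX, Subgroup.commutator_le]
    intro v hv b hb
    have h4 : b * v⁻¹ * b⁻¹ ∈ V := (Subgroup.mem_normalizer_iff.mp (hAV (hB₁A hb)) _).mp (V.inv_mem hv)
    have h5 : ⁅v, b⁆ = v * (b * v⁻¹ * b⁻¹) := by
      rw [commutatorElement_def]; group
    rw [h5]
    exact V.mul_mem hv h4
  set Bs : Subgroup G := B₁ ⊓ centralizer (X : Set G) with hBs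
  refine ⟨Bs, inf_le_left.trans hB₁A, ⟨?_, ?_, ?_⟩, ?_⟩
  · intro B hB
    have h4 := hB₁max B (hB.trans inf_le_left)
    rw [← h2] at h4
    exact h4
  · have : ⁅Bs, Bs⁆ ≤ ⁅B₁, B₁⁆ := Subgroup.commutator_mono inf_le_left inf_le_left
    exact this.trans hab
  · intro b hb
    rw [Subgroup.mem_centralizer_iff]
    intro v hv
    obtain ⟨hbB, hbC⟩ := Subgroup.mem_inf.mp hb
    set c := b * v * b⁻¹ * v⁻¹ with hc
    have hcX : c ∈ X := by
      have h4 : ⁅v, b⁆ ∈ X := Subgroup.commutator_mem_commutator hv hbB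
      have h5 : c = ⁅v, b⁆⁻¹ := by
        rw [commutatorElement_def, hc]; group
      rw [h5]
      exact X.inv_mem h4
    have hbc : c * b = b * c := (Subgroup.mem_centralizer_iff.mp hbC) c hcX
    have hcc : c * c = 1 := hVp c (hXV hcX)
    have hbv : b * v = c * v * b := by rw [hc]; group
    have hfin : b ^ 2 * v = v * b ^ 2 := by
      calc b ^ 2 * v = b * (b * v) := by rw [pow_two]; group
        _ = b * (c * v * b) := by rw [hbv]
        _ = (b * c) * v * b := by group
        _ = (c * b) * v * b := by rw [hbc]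
        _ = c * (b * v) * b := by group
        _ = c * (c * v * b) * b := by rw [hbv]
        _ = (c * c) * v * (b * b) := by group
        _ = v * b ^ 2 := by rw [hcc, pow_two]; group
    exact hfin.symm
  · intro hbot
    apply hB₁C
    -- `V = [V, B₁] C_V(B₁)`
    have h4 : Bs ≤ centralizer (V : Set G) := by
      have := (Subgroup.commutator_eq_bot_iff_le_centralizer).mp hbot
      rw [Subgroup.le_centralizer_iff] at this
      exact this
    have h5 : V ⊓ centralizer (Bs : Set G) = V := by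
      apply inf_eq_left.mpr
      rw [Subgroup.le_centralizer_iff]
      exact h4
    rw [h5] at h3
    have h6 : X ≤ ⁅X, B₁⁆ := by
      conv_lhs => rw [hX]
      rw [Subgroup.commutator_le]
      intro v hv b hb
      have hv' : v ∈ X ⊔ (V ⊓ centralizer (B₁ : Set G)) := by rw [← h3]; exact hv
      obtain ⟨u, hu, z, hz, rfl⟩ := Cfsg.Agent.Lib.Components.LayerProduct.mem_sup_of_commute
        (fun a ha c hc => hVc a (hXV ha) c (Subgroup.mem_inf.mp hc).1) hv'
      obtain ⟨hzV, hzC⟩ := Subgroup.mem_inf.mp hz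
      have hzb : z * b = b * z := (Subgroup.mem_centralizer_iff.mp hzC b hb).symm
      have h7 : ⁅u * z, b⁆ = ⁅u, b⁆ := by
        rw [commutatorElement_def, commutatorElement_def]
        have h8 : (z * b) * z⁻¹ = b := by rw [hzb]; group
        calc u * z * b * (u * z)⁻¹ * b⁻¹ = u * ((z * b) * z⁻¹) * u⁻¹ * b⁻¹ := by group
          _ = u * b * u⁻¹ * b⁻¹ := by rw [h8]
      rw [h7]
      exact Subgroup.commutator_mem_commutator hu hb
    have h7 := eq_bot_of_le_comm_pGroup hT (hXV.trans hVT) (hB₁A.trans hAT) h6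
    have h8 := (Subgroup.commutator_eq_bot_iff_le_centralizer).mp h7
    rw [Subgroup.le_centralizer_iff] at h8
    exact h8

open Cfsg.Agent.Lib.PGroup.ZJ Cfsg.Agent.Lib.Basic.PCore Cfsg.Agent.Lib.PGroup.WeakRepl
  Cfsg.Agent.Lib.Transfer.Basic

/-- `Ω₁` of an abelian subgroup, for the prime `2`. -/
def omega2 (D : Subgroup G) (hDc : ∀ x ∈ D, ∀ y ∈ D, x * y = y * x) : Subgroup G where
  carrier := {x | x ∈ D ∧ x * x = 1}
  mul_mem' := by
    rintro x y ⟨hx1, hx2⟩ ⟨hy1, hy2⟩
    refine ⟨mul_mem hx1 hy1, ?_⟩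
    calc x * y * (x * y) = x * (y * x) * y := by group
      _ = x * (x * y) * y := by rw [hDc y hy1 x hx1]
      _ = (x * x) * (y * y) := by group
      _ = 1 := by rw [hx2, hy2, one_mul]
  one_mem' := ⟨one_mem _, mul_one 1⟩
  inv_mem' := by
    rintro x ⟨hx1, hx2⟩
    refine ⟨inv_mem hx1, ?_⟩
    rw [← mul_inv_rev, hx2, inv_one]

/-- **The key lemma.** In a `2`-soluble group with `O_{2'}(G) = 1`, `S₄`-free, with `C_G(Z(S))` having a normal
`2`-complement, the abelian subgroups of `S` of largest order lie in `O₂(G)`. -/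
theorem le_pCore_of_mem_AA (hsol : Cfsg.IsPSolvable 2 G) (hO : Cfsg.pPrimeCore 2 G = ⊥) (S : Sylow 2 G)
    (hC : Cfsg.HasNormalPComplement 2 ↥(centralizer
      (((S : Subgroup G) ⊓ centralizer ((S : Subgroup G) : Set G) : Subgroup G) : Set G)))
    (hfree : ¬ Cfsg.Involves (Equiv.Perm (Fin 4)) G) {A : Subgroup G} (hA : A ∈ AA 0 (S : Subgroup G)) :
    A ≤ Cfsg.pCore 2 G := by
  classical
  haveI hp2 : Fact (Nat.Prime 2) := ⟨Nat.prime_two⟩
  by_contra hAP
  set P := Cfsg.pCore 2 G with hP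
  haveI hPn : P.Normal := pCore_normal 2 G
  have hPp : IsPGroup 2 P := pCore_isPGroup 2
  have hcent : centralizer (P : Set G) ≤ P := Cfsg.Agent.Lib.Solvable.PSeries.centralizer_pCore_le hsol hO
  have hPS : P ≤ (S : Subgroup G) := hPp.le_sylow_of_normal S
  set Z : Subgroup G := (S : Subgroup G) ⊓ centralizer ((S : Subgroup G) : Set G) with hZ
  set Zp : Subgroup G := P ⊓ centralizer (P : Set G) with hZp
  haveI hZpn : Zp.Normal := by
    haveI : (centralizer (P : Set G)).Normal := Subgroup.normal_centralizer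
    exact Subgroup.normal_inf_normal _ _
  have hZZp : Z ≤ Zp := by
    intro x hx
    have h1 : x ∈ centralizer (P : Set G) := Subgroup.centralizer_le hPS hx.2
    exact ⟨hcent h1, h1⟩
  set D : Subgroup G := Subgroup.normalClosure (Z : Set G) with hD
  haveI hDn : D.Normal := Subgroup.normalClosure_normal
  have hDZp : D ≤ Zp := Subgroup.normalClosure_le_normal hZZp
  have hDP : D ≤ P := hDZp.trans inf_le_left
  have hDc : ∀ x ∈ D, ∀ y ∈ D, x * y = y * x := by
    intro x hx y hy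
    exact (Subgroup.mem_centralizer_iff.mp (hDZp hy).2 x (hDP hx))
  have hDp : IsPGroup 2 D := hPp.to_le hDP
  set V : Subgroup G := omega2 D hDc with hVdef
  have hVD : V ≤ D := fun x hx => hx.1
  have hVsq : ∀ v ∈ V, v * v = 1 := fun v hv => hv.2
  haveI hVn : V.Normal := by
    refine ⟨fun x hx g => ⟨hDn.conj_mem x hx.1 g, ?_⟩⟩
    calc g * x * g⁻¹ * (g * x * g⁻¹) = g * (x * x) * g⁻¹ := by group
      _ = 1 := by rw [hx.2]; group
  have hV : Cfsg.IsElementaryAbelian 2 V := by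
    rw [Cfsg.Agent.Lib.PGroup.Basic.isElementaryAbelian_iff]
    refine ⟨fun a ha b hb => hDc a (hVD ha) b (hVD hb), fun a ha => ?_⟩
    rw [pow_two]
    exact ha.2
  -- the centralizer of `D`
  set C : Subgroup G := centralizer (D : Set G) with hCdef
  haveI hCn : C.Normal := Subgroup.normal_centralizer
  have hZD : Z ≤ D := Subgroup.subset_normalClosure
  have hCZ : C ≤ centralizer (Z : Set G) := Subgroup.centralizer_le hZD
  have hCc : Cfsg.HasNormalPComplement 2 C :=
    HasNormalPComplement_of_injective (Subgroup.inclusion hCZ) (Subgroup.inclusion_injective hCZ) hC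
  obtain ⟨M, hMn, hMC, hMcop, -, hM⟩ := exists_normal_compl C hCc
  have hM1 : M = ⊥ := by
    have := le_pPrimeCore hMn hMcop
    rw [hO] at this
    exact le_bot_iff.mp this
  -- the centralizer of `V`
  set K : Subgroup G := centralizer (V : Set G) with hKdef
  haveI hKn : K.Normal := Subgroup.normal_centralizer
  have hodd : ∀ x ∈ K, (orderOf x).Coprime 2 → x = 1 := by
    intro x hx hxo
    have h1 := fix_of_fix_omega hDc hDp (fun d hd => hDn.conj_mem d hd x) hxo (fun v hv hvv => by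
      have h2 : v ∈ V := ⟨hv, hvv⟩
      have h3 := Subgroup.mem_centralizer_iff.mp hx v h2
      rw [← h3]
      group)
    have h2 : x ∈ C := by
      rw [hCdef, Subgroup.mem_centralizer_iff]
      intro d hd
      have h3 := h1 d hd
      exact (mul_inv_eq_iff_eq_mul.mp h3).symm
    have h3 := hM x h2 hxo
    rw [hM1, Subgroup.mem_bot] at h3
    exact h3
  have hKp : IsPGroup 2 K := by
    rintro ⟨x, hx⟩
    obtain ⟨a, b, hab, hc, ha, hb, ⟨k, hk⟩, hbo⟩ := exists_pPart_decomp (p := 2) x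
    have hbK : b ∈ K := (Subgroup.zpowers_le.mpr hx) hb
    have hb1 := hodd b hbK hbo
    rw [hb1, mul_one] at hab
    refine ⟨k, ?_⟩
    apply Subtype.ext
    simp only [Subgroup.coe_pow, Subgroup.coe_one]
    rw [← hab, ← hk]
    exact pow_orderOf_eq_one a
  have hKP : K ≤ P := le_pCore hKn hKp
  have hPK : P ≤ K := by
    rw [hKdef, Subgroup.le_centralizer_iff]
    intro v hv
    exact (hDZp (hVD hv)).2
  have hOC : ∀ D' : Subgroup G, D'.Normal → centralizer (V : Set G) ≤ D' →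
      (∃ k : ℕ, (centralizer (V : Set G)).relIndex D' = 2 ^ k) → D' = centralizer (V : Set G) := by
    rintro D' hD' hKD' ⟨k, hk⟩
    apply le_antisymm _ hKD'
    have h1 := card_mul_relIndex' hKD'
    obtain ⟨a, ha⟩ := IsPGroup.iff_card.mp hKp
    have h2 : IsPGroup 2 D' := IsPGroup.of_card (n := a + k) (by
      rw [← h1, hk, pow_add]
      rw [← hKdef, ha])
    exact (le_pCore hD' h2).trans hPK
  -- the offender
  have hAS : A ≤ (S : Subgroup G) := hA.1
  have hAc : ∀ x ∈ A, ∀ y ∈ A, x * y = y * x := hA.2.1.1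
  have hAK : ¬ A ≤ centralizer (V : Set G) := fun h => hAP (h.trans hKP)
  have hAV : A ≤ normalizer (V : Set G) := by
    rw [Subgroup.normalizer_eq_top_iff.mpr hVn]
    exact le_top
  have hVS : V ≤ (S : Subgroup G) := hVD.trans (hDP.trans hPS)
  have hval : mval V (A ⊓ centralizer (V : Set G)) ≤ mval V A := by
    set H := A ⊓ centralizer (V : Set G) with hH
    have hc : ∀ a ∈ H, ∀ b ∈ V, a * b = b * a := fun a ha b hb =>
      (Subgroup.mem_centralizer_iff.mp ha.2 b hb).symm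
    have hZ' : H ⊓ V ≤ V ⊓ centralizer (A : Set G) := by
      intro x hx
      obtain ⟨hx1, hx2⟩ := Subgroup.mem_inf.mp hx
      refine Subgroup.mem_inf.mpr ⟨hx2, Subgroup.mem_centralizer_iff.mpr ?_⟩
      intro a ha
      exact hAc a ha x (Subgroup.mem_inf.mp hx1).1
    have h1 := card_le_of_comm hc hZ'
    have hsup : PP 0 (H ⊔ V) := by
      refine ⟨sup_comm_of (fun a ha b hb => hAc a ha.1 b hb.1)
        (fun a ha b hb => hDc a (hVD ha) b (hVD hb)) hc, fun x _ => pow_zero x⟩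
    have h2 := hA.2.2 (H ⊔ V) (sup_le (inf_le_left.trans hAS) hVS) hsup
    have h3 : Nat.card ↥(V ⊓ centralizer (H : Set G)) ≤ Nat.card V := Subgroup.card_le_of_le inf_le_left
    calc Nat.card H * Nat.card ↥(V ⊓ centralizer (H : Set G)) ≤ Nat.card H * Nat.card V :=
          Nat.mul_le_mul_left _ h3
      _ ≤ Nat.card ↥(H ⊔ V) * Nat.card ↥(V ⊓ centralizer (A : Set G)) := h1
      _ ≤ Nat.card A * Nat.card ↥(V ⊓ centralizer (A : Set G)) := Nat.mul_le_mul_right _ h2
  obtain ⟨B, hBA, hB, hBV⟩ := exists_best_offender hV hAV hAc S.isPGroup' hAS hVS hval hAK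
  exact hfree (involves_of_best_offender V hV hsol hOC hB hBV)

/-- The Thompson subgroup is normal. -/
theorem normal_JJ_of_le_pCore {p : ℕ} [hp : Fact p.Prime] (S : Sylow p G)
    (hall : ∀ A ∈ AA 0 (S : Subgroup G), A ≤ Cfsg.pCore p G) : (JJ 0 (S : Subgroup G)).Normal := by
  classical
  set P := Cfsg.pCore p G with hP
  haveI hPn : P.Normal := pCore_normal p G
  have hPp : IsPGroup p P := pCore_isPGroup p
  have hPS : P ≤ (S : Subgroup G) := hPp.le_sylow_of_normal S
  have hAA : AA 0 (S : Subgroup G) = AA 0 P := by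
    ext U
    constructor
    · intro hU
      exact ⟨hall U hU, hU.2.1, fun V hV hVP => hU.2.2 V (hV.trans hPS) hVP⟩
    · intro hU
      refine ⟨hU.1.trans hPS, hU.2.1, fun V hV hVP => ?_⟩
      obtain ⟨U₀, hU₀⟩ := AA_nonempty (G := G) 0 (S : Subgroup G)
      have h1 := hU₀.2.2 V hV hVP
      have h2 := hU.2.2 U₀ (hall U₀ hU₀) hU₀.2.1
      exact h1.trans h2
  have hJJ : JJ 0 (S : Subgroup G) = JJ 0 P := by
    rw [JJ, JJ, hAA]
  rw [hJJ]
  exact ⟨fun x hx g => conj_mem_JJ (fun y hy => hPn.conj_mem y hy g) hx⟩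

/-- The `2`-constrained core of the theorem. -/
theorem hnpc_of_core (hsol : Cfsg.IsPSolvable 2 G) (hO : Cfsg.pPrimeCore 2 G = ⊥) (S : Sylow 2 G)
    (hC : Cfsg.HasNormalPComplement 2 ↥(centralizer
      (((S : Subgroup G) ⊓ centralizer ((S : Subgroup G) : Set G) : Subgroup G) : Set G)))
    (hN : Cfsg.HasNormalPComplement 2 ↥(normalizer (JJ 0 (S : Subgroup G) : Set G)))
    (hfree : ¬ Cfsg.Involves (Equiv.Perm (Fin 4)) G) : Cfsg.HasNormalPComplement 2 G := by
  haveI hp2 : Fact (Nat.Prime 2) := ⟨Nat.prime_two⟩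
  have hn := normal_JJ_of_le_pCore S (fun A hA => le_pCore_of_mem_AA hsol hO S hC hfree hA)
  have htop := Subgroup.normalizer_eq_top_iff.mpr hn
  refine HasNormalPComplement_of_surjective (normalizer (JJ 0 (S : Subgroup G) : Set G)).subtype ?_ hN
  intro y
  exact ⟨⟨y, by rw [htop]; trivial⟩, rfl⟩

end Cfsg.Agent.Lib.SFour.Offender
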