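import Mathlib
import Cfsg.Agent.Lib.SFour.Offender
import Cfsg.Agent.Lib.Thompson.GlaubermanThompson
import Cfsg.Agent.Lib.PGroup.GTOdd
import Cfsg.Agent.Lib.Transfer.TransferReduction

/-!
# Thompson's normal `p`-complement theorem with `C(Z(S))` and `N(J(S))`, `p` odd or `S₄`-free
-/

set_option autoImplicit false
set_option linter.unusedVariables false
set_option linter.style.haveILetI false
set_option linter.unusedSectionVars false

universe u

namespace Cfsg.Agent.Lib.SFour.Main

open Subgroup Cfsg
open Cfsg.Agent.Lib.SFour.Recog Cfsg.Agent.Lib.SFour.Offender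
open Cfsg.Agent.Lib.PGroup.ZJ Cfsg.Agent.Lib.Basic.PCore Cfsg.Agent.Lib.Transfer.Basic
open Cfsg.Agent.Lib.Thompson.Transport Cfsg.Agent.Lib.Thompson.GT

variable {p : ℕ} [hp : Fact p.Prime]

/-- The centre of a subgroup, as a subgroup of the ambient group. -/
abbrev ZS {G : Type*} [Group G] (R : Subgroup G) : Subgroup G := R ⊓ centralizer (R : Set G)

omit hp in
theorem ZS_map_of_injOn {G H : Type*} [Group G] [Group H] (f : G →* H) {R : Subgroup G} (hf : Set.InjOn f R) :
    (ZS R).map f = ZS (R.map f) := by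
  apply le_antisymm
  · rintro _ ⟨x, hx, rfl⟩
    obtain ⟨hx1, hx2⟩ := Subgroup.mem_inf.mp hx
    refine Subgroup.mem_inf.mpr ⟨⟨x, hx1, rfl⟩, Subgroup.mem_centralizer_iff.mpr ?_⟩
    rintro _ ⟨y, hy, rfl⟩
    rw [← map_mul, ← map_mul, (Subgroup.mem_centralizer_iff.mp hx2 y hy)]
  · intro z hz
    obtain ⟨⟨x, hx, rfl⟩, hz⟩ := Subgroup.mem_inf.mp hz
    refine ⟨x, Subgroup.mem_inf.mpr ⟨hx, Subgroup.mem_centralizer_iff.mpr ?_⟩, rfl⟩
    intro y hy
    apply hf (R.mul_mem hy hx) (R.mul_mem hx hy)
    rw [map_mul, map_mul]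
    exact Subgroup.mem_centralizer_iff.mp hz (f y) ⟨y, hy, rfl⟩

/-- A nontrivial `p`-group has a nontrivial centre. -/
theorem ZS_ne_bot {G : Type*} [Group G] [Finite G] {R : Subgroup G} (hR : IsPGroup p R) (hne : R ≠ ⊥) :
    ZS R ≠ ⊥ := by
  haveI : Nontrivial R := (Subgroup.nontrivial_iff_ne_bot R).mpr hne
  haveI := hR.center_nontrivial
  obtain ⟨z, hz⟩ : ∃ z : Subgroup.center R, z ≠ 1 := exists_ne 1
  intro hbot
  have h1 : ((z : R) : G) ∈ ZS R := by
    refine Subgroup.mem_inf.mpr ⟨(z : R).2, Subgroup.mem_centralizer_iff.mpr ?_⟩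
    intro y hy
    have h2 := (Subgroup.mem_center_iff.mp z.2) ⟨y, hy⟩
    exact congrArg Subtype.val h2
  rw [hbot, Subgroup.mem_bot] at h1
  exact hz (Subtype.ext (Subtype.ext h1))

/-- The normalizer of a preimage surjects onto the normalizer. -/
theorem hnpc_normalizer_of_comap {G H : Type*} [Group G] [Finite G] [Group H] {f : G →* H}
    (hf : Function.Surjective f) (U : Subgroup H)
    (h : HasNormalPComplement p ↥(normalizer (U.comap f : Set G))) :
    HasNormalPComplement p ↥(normalizer (U : Set H)) := by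
  have hmap : (U.comap f).map f = U := Subgroup.map_comap_eq_self_of_surjective hf U
  let φ : normalizer (U.comap f : Set G) →* normalizer (U : Set H) :=
    { toFun := fun x => ⟨f x, by
        have h1 := Subgroup.le_normalizer_map f (H := U.comap f) ⟨x, x.2, rfl⟩
        rwa [hmap] at h1⟩
      map_one' := by ext; simp
      map_mul' := by intro x y; apply Subtype.ext; exact map_mul f _ _ }
  refine HasNormalPComplement_of_surjective φ ?_ h
  rintro ⟨y, hy⟩
  obtain ⟨g, rfl⟩ := hf y
  refine ⟨⟨g, ?_⟩, rfl⟩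
  rw [Subgroup.mem_normalizer_iff] at hy ⊢
  intro h'
  have := hy (f h')
  constructor
  · intro hh
    have h6 := this.mp hh
    show f (g * h' * g⁻¹) ∈ U
    simpa [map_mul] using h6
  · intro hh
    have h5 : f (g * h' * g⁻¹) ∈ U := hh
    apply this.mpr
    simpa [map_mul] using h5

/-- `f` is injective on `p`-subgroups when the kernel has order prime to `p`. -/
theorem injOn_mk_of_coprime {G : Type*} [Group G] [Finite G] (O : Subgroup G) [O.Normal]
    (hO : (Nat.card O).Coprime p) {R : Subgroup G} (hR : IsPGroup p R) :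
    Set.InjOn (QuotientGroup.mk' O) (R : Set G) := by
  have hPO : ∀ x ∈ R, x ∈ O → x = 1 := by
    intro x hxP hxO
    obtain ⟨k, hk⟩ := hR ⟨x, hxP⟩
    have h1 : x ^ (p ^ k) = 1 := by simpa using congrArg Subtype.val hk
    have h2 : orderOf x ∣ p ^ k := orderOf_dvd_of_pow_eq_one h1
    have h3 : orderOf x ∣ Nat.card O := Subgroup.orderOf_dvd_natCard O hxO
    have h4 : (orderOf x).Coprime (p ^ k) :=
      Nat.Coprime.pow_right k (Nat.Coprime.coprime_dvd_left h3 hO)
    have h5 := Nat.eq_one_of_dvd_coprimes h4 dvd_rfl h2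
    exact orderOf_eq_one_iff.mp h5
  intro x hx y hy hxy
  have h1 : x⁻¹ * y ∈ O := by
    have : (x : G ⧸ O) = y := hxy
    exact QuotientGroup.eq.mp this
  have h2 := hPO _ (R.mul_mem (R.inv_mem hx) hy) h1
  exact (inv_mul_eq_one.mp h2)

/-- Normalizers of `p`-subgroups survive a quotient by a `p'`-group. -/
theorem hnpc_normalizer_map_coprime {G : Type*} [Group G] [Finite G] (O : Subgroup G) [O.Normal]
    (hO : (Nat.card O).Coprime p) {W : Subgroup G} (hW : IsPGroup p W)
    (h : HasNormalPComplement p ↥(normalizer (W : Set G))) :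
    HasNormalPComplement p ↥(normalizer ((W.map (QuotientGroup.mk' O) : Subgroup (G ⧸ O)) : Set (G ⧸ O))) := by
  set f : G →* G ⧸ O := QuotientGroup.mk' O with hf
  let φ : normalizer (W : Set G) →* normalizer ((W.map f : Subgroup (G ⧸ O)) : Set (G ⧸ O)) :=
    { toFun := fun x => ⟨f x, Subgroup.le_normalizer_map f ⟨x, x.2, rfl⟩⟩
      map_one' := by ext; simp
      map_mul' := by intro x y; apply Subtype.ext; exact map_mul f _ _ }
  refine HasNormalPComplement_of_surjective φ ?_ h
  rintro ⟨y, hy⟩
  obtain ⟨g, rfl⟩ := QuotientGroup.mk'_surjective O y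
  obtain ⟨d, hd, n, hn, rfl⟩ := Cfsg.Agent.Lib.Transfer.TransferReduction.exists_mul_of_map_normalizer hW hO hy
  refine ⟨⟨n, hn⟩, ?_⟩
  apply Subtype.ext
  show f n = f (d * n)
  have hfd : f d = 1 := (QuotientGroup.eq_one_iff d).mpr hd
  rw [map_mul, hfd, one_mul]

/-- Centralizers of `p`-subgroups survive a quotient by a `p'`-group. -/
theorem hnpc_centralizer_map_coprime {G : Type*} [Group G] [Finite G] (O : Subgroup G) [O.Normal]
    (hO : (Nat.card O).Coprime p) {W : Subgroup G} (hW : IsPGroup p W)
    (h : HasNormalPComplement p ↥(centralizer (W : Set G))) :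
    HasNormalPComplement p ↥(centralizer ((W.map (QuotientGroup.mk' O) : Subgroup (G ⧸ O)) : Set (G ⧸ O))) := by
  set f : G →* G ⧸ O := QuotientGroup.mk' O with hf
  have hinj := injOn_mk_of_coprime O hO hW
  let φ : centralizer (W : Set G) →* centralizer ((W.map f : Subgroup (G ⧸ O)) : Set (G ⧸ O)) :=
    { toFun := fun x => ⟨f x, by
        rw [Subgroup.mem_centralizer_iff]
        rintro _ ⟨y, hy, rfl⟩
        rw [← map_mul, ← map_mul, Subgroup.mem_centralizer_iff.mp x.2 y hy]⟩
      map_one' := by ext; simp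
      map_mul' := by intro x y; apply Subtype.ext; exact map_mul f _ _ }
  refine HasNormalPComplement_of_surjective φ ?_ h
  rintro ⟨y, hy⟩
  obtain ⟨g, rfl⟩ := QuotientGroup.mk'_surjective O y
  have hyN := Subgroup.centralizer_le_normalizer _ hy
  obtain ⟨d, hd, n, hn, rfl⟩ := Cfsg.Agent.Lib.Transfer.TransferReduction.exists_mul_of_map_normalizer hW hO hyN
  have hfn : f (d * n) = f n := by
    have hfd : f d = 1 := (QuotientGroup.eq_one_iff d).mpr hd
    rw [map_mul, hfd, one_mul]
  have hnC : n ∈ centralizer (W : Set G) := by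
    rw [Subgroup.mem_centralizer_iff]
    intro z hz
    have h1 : n * z * n⁻¹ ∈ W := (Subgroup.mem_normalizer_iff.mp hn z).mp hz
    have h2 : f (n * z * n⁻¹) = f z := by
      have h3 := Subgroup.mem_centralizer_iff.mp hy (f z) ⟨z, hz, rfl⟩
      rw [hfn] at h3
      rw [map_mul, map_mul, map_inv, ← h3]
      simp
    have h4 := hinj h1 hz h2
    exact (mul_inv_eq_iff_eq_mul.mp h4).symm
  refine ⟨⟨n, hnC⟩, ?_⟩
  apply Subtype.ext
  exact hfn.symm

/-- Restriction of the hypotheses to a subgroup. -/
theorem restrict_hyp {G : Type*} [Group G] [Finite G] {H T : Subgroup G} (P : Subgroup G) (S' : Sylow p H)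
    (hmap : (S' : Subgroup H).map H.subtype = T) (hZT : ZS P ≤ T) (hTP : T ≤ P)
    (hC : HasNormalPComplement p ↥(centralizer (ZS P : Set G)))
    (hN : HasNormalPComplement p ↥(normalizer (JJ 0 T : Set G))) :
    HasNormalPComplement p ↥(centralizer (ZS (S' : Subgroup H) : Set H)) ∧
      HasNormalPComplement p ↥(normalizer (JJ 0 (S' : Subgroup H) : Set H)) := by
  constructor
  · have hinj : Function.Injective H.subtype := H.subtype_injective
    let φ : centralizer (ZS (S' : Subgroup H) : Set H) →* centralizer (ZS P : Set G) :=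
      { toFun := fun x => ⟨((x : H) : G), by
          rw [Subgroup.mem_centralizer_iff]
          intro z hz
          have hzT : z ∈ T := hZT hz
          rw [← hmap] at hzT
          obtain ⟨w, hw, rfl⟩ := hzT
          have hwZ : w ∈ ZS (S' : Subgroup H) := by
            refine Subgroup.mem_inf.mpr ⟨hw, Subgroup.mem_centralizer_iff.mpr ?_⟩
            intro y hy
            have h1 := Subgroup.mem_centralizer_iff.mp (Subgroup.mem_inf.mp hz).2 ((y : H) : G) (by
              have : ((y : H) : G) ∈ (S' : Subgroup H).map H.subtype := ⟨y, hy, rfl⟩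
              rw [hmap] at this
              exact hTP this)
            exact Subtype.ext h1
          have h2 := Subgroup.mem_centralizer_iff.mp x.2 w hwZ
          exact congrArg Subtype.val h2⟩
        map_one' := rfl
        map_mul' := fun _ _ => rfl }
    refine HasNormalPComplement_of_injective φ ?_ hC
    intro x y hxy
    have h1 := congrArg (fun z : centralizer (ZS P : Set G) => (z : G)) hxy
    exact Subtype.ext (Subtype.ext h1)
  · have hZ : (JJ 0 (S' : Subgroup H)).map H.subtype = JJ 0 T := by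
      rw [JJ_map_of_injOn H.subtype H.subtype_injective.injOn, hmap]
    let φ : normalizer (JJ 0 (S' : Subgroup H) : Set H) →* normalizer (JJ 0 T : Set G) :=
      { toFun := fun x => ⟨((x : H) : G), by
          rw [← hZ]
          exact Subgroup.le_normalizer_map H.subtype ⟨x, x.2, rfl⟩⟩
        map_one' := rfl
        map_mul' := fun _ _ => rfl }
    refine HasNormalPComplement_of_injective φ ?_ hN
    intro x y hxy
    have h1 := congrArg (fun z : normalizer (JJ 0 T : Set G) => (z : G)) hxy
    exact Subtype.ext (Subtype.ext h1)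

/-- The theorem for `p` odd. -/
theorem main_odd (hp2 : p ≠ 2) : ∀ (n : ℕ) (G : Type u) [Group G] [Finite G], Nat.card G = n →
    ∀ P : Sylow p G, HasNormalPComplement p ↥(centralizer (ZS (P : Subgroup G) : Set G)) →
      HasNormalPComplement p ↥(normalizer (JJ 0 (P : Subgroup G) : Set G)) →
      HasNormalPComplement p G := by
  intro n
  induction n using Nat.strong_induction_on with
  | _ n ih =>
    intro G _ _ hcard P hC hN
    classical
    have key : HasNormalPComplement p ↥(normalizer (ZZ 0 (P : Subgroup G) : Set G)) →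
        HasNormalPComplement p G := fun h =>
      Cfsg.Agent.Lib.PGroup.GTOdd.hnpc_of_normalizer_ZZ hp2 (Or.inl rfl) P (P : Subgroup G)
        (strongly_closed_self _) h
    set Z₀ := ZZ 0 (P : Subgroup G) with hZ₀
    set H := normalizer (Z₀ : Set G) with hH
    have hPH : (P : Subgroup G) ≤ H := by
      intro g hg
      rw [hH, Subgroup.mem_normalizer_iff]
      have hk : ∀ g ∈ (P : Subgroup G), ∀ y ∈ Z₀, g * y * g⁻¹ ∈ Z₀ := by
        intro g hg y hy
        refine conj_mem_ZZ ?_ hy
        intro z hz
        exact (P : Subgroup G).mul_mem ((P : Subgroup G).mul_mem hg hz) ((P : Subgroup G).inv_mem hg)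
      intro y
      refine ⟨hk g hg y, fun hy => ?_⟩
      have := hk g⁻¹ ((P : Subgroup G).inv_mem hg) _ hy
      simpa [mul_assoc] using this
    by_cases hHt : H = ⊤
    · have hZ₀n : Z₀.Normal := Subgroup.normalizer_eq_top_iff.mp hHt
      set C := centralizer (Z₀ : Set G) with hCdef
      haveI hCn : C.Normal := Subgroup.normal_centralizer
      have hZ : ZS (P : Subgroup G) ≤ Z₀ := by
        intro x hx
        obtain ⟨hx1, hx2⟩ := Subgroup.mem_inf.mp hx
        apply mem_ZZ_of_forall
        intro U hU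
        refine mem_of_comm hU hx1 (fun u hu => ?_) (pow_zero x)
        exact (Subgroup.mem_centralizer_iff.mp hx2 u (hU.1 hu)).symm
      have hCZ : C ≤ centralizer (ZS (P : Subgroup G) : Set G) := Subgroup.centralizer_le hZ
      have hCc : HasNormalPComplement p C :=
        HasNormalPComplement_of_injective (Subgroup.inclusion hCZ) (Subgroup.inclusion_injective hCZ) hC
      obtain ⟨M, hMn, hMC, hMcop, hMp, hM⟩ := exists_normal_compl C hCc
      haveI := hMn
      apply hnpc_of_quotient_coprime M hMcop
      set f : G →* G ⧸ M := QuotientGroup.mk' M with hf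
      have hfs : Function.Surjective f := QuotientGroup.mk'_surjective M
      have hJC : JJ 0 (P : Subgroup G) ≤ C := by
        intro x hx
        rw [hCdef, Subgroup.mem_centralizer_iff]
        intro z hz
        exact (Subgroup.mem_centralizer_iff.mp (mem_ZZ.mp hz).2.1 x hx).symm
      have hJp : IsPGroup p (JJ 0 (P : Subgroup G)) := P.isPGroup'.to_le (JJ_le _ _)
      have hinj := injOn_mk_of_coprime M hMcop P.isPGroup'
      let Pq : Sylow p (G ⧸ M) := P.mapSurjective hfs
      have hPq : (Pq : Subgroup (G ⧸ M)) = (P : Subgroup G).map f := rfl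
      have hJq : JJ 0 (Pq : Subgroup (G ⧸ M)) = (JJ 0 (P : Subgroup G)).map f := by
        rw [hPq, JJ_map_of_injOn f hinj]
      have hCq : C.map f ≤ Cfsg.pCore p (G ⧸ M) := by
        refine le_pCore (Subgroup.Normal.map hCn f hfs) ?_
        rintro ⟨_, x, hx, rfl⟩
        obtain ⟨k, hk⟩ := hMp x hx
        refine ⟨k, ?_⟩
        apply Subtype.ext
        simp only [Subgroup.coe_pow, Subgroup.coe_one]
        rw [← map_pow]
        exact (QuotientGroup.eq_one_iff _).mpr hk
      have hall : ∀ A ∈ AA 0 (Pq : Subgroup (G ⧸ M)), A ≤ Cfsg.pCore p (G ⧸ M) := by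
        intro A hA
        refine (AA_le_JJ hA).trans ?_
        rw [hJq]
        exact (Subgroup.map_mono hJC).trans hCq
      have hnorm := normal_JJ_of_le_pCore Pq hall
      rw [hJq] at hnorm
      have htop := Subgroup.normalizer_eq_top_iff.mpr hnorm
      refine HasNormalPComplement_of_surjective (f.comp (normalizer (JJ 0 (P : Subgroup G) : Set G)).subtype) ?_ hN
      intro y
      obtain ⟨g, rfl⟩ := hfs y
      have hg : f g ∈ normalizer (((JJ 0 (P : Subgroup G)).map f : Subgroup (G ⧸ M)) : Set (G ⧸ M)) := by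
        rw [htop]; trivial
      obtain ⟨d, hd, m, hm, rfl⟩ :=
        Cfsg.Agent.Lib.Transfer.TransferReduction.exists_mul_of_map_normalizer hJp hMcop hg
      refine ⟨⟨m, hm⟩, ?_⟩
      show f m = f (d * m)
      have hfd : f d = 1 := (QuotientGroup.eq_one_iff d).mpr hd
      rw [map_mul, hfd, one_mul]
    · have hcardH : Nat.card H < n := by
        rw [← hcard]
        exact Cfsg.Agent.Lib.Thompson.QuadraticBase.card_lt_of_ne_top hHt
      let S' : Sylow p H := P.subtype hPH
      have hmap : (S' : Subgroup H).map H.subtype = (P : Subgroup G) := by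
        show ((P : Subgroup G).subgroupOf H).map H.subtype = _
        rw [Subgroup.subgroupOf_map_subtype, inf_of_le_left hPH]
      obtain ⟨h1, h2⟩ := restrict_hyp (P : Subgroup G) S' hmap inf_le_left le_rfl hC hN
      exact key (ih _ hcardH H rfl S' h1 h2)

/-- The theorem for `p = 2`, `S₄`-free. -/
theorem main_two : ∀ (n : ℕ) (G : Type u) [Group G] [Finite G], Nat.card G = n →
    ¬ Cfsg.Involves (Equiv.Perm (Fin 4)) G →
    ∀ P : Sylow 2 G, HasNormalPComplement 2 ↥(centralizer (ZS (P : Subgroup G) : Set G)) →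
      HasNormalPComplement 2 ↥(normalizer (JJ 0 (P : Subgroup G) : Set G)) →
      HasNormalPComplement 2 G := by
  intro n
  induction n using Nat.strong_induction_on with
  | _ n ih =>
    intro G _ _ hcard hfree P hC hN
    classical
    haveI hp2 : Fact (Nat.Prime 2) := ⟨Nat.prime_two⟩
    by_contra hG
    -- `O_{2'}(G) = 1`
    have hO : Cfsg.pPrimeCore 2 G = ⊥ := by
      by_contra hOne
      set O := Cfsg.pPrimeCore 2 G with hOdef
      haveI hOn : O.Normal := pPrimeCore_normal 2 G
      have hOcop : (Nat.card O).Coprime 2 := Cfsg.Agent.Lib.Solvable.PSeries.pPrimeCore_coprime 2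
      apply hG
      apply hnpc_of_quotient_coprime O hOcop
      have hcardq : Nat.card (G ⧸ O) < n := by
        rw [← hcard, Subgroup.card_eq_card_quotient_mul_card_subgroup O]
        have h1 : 1 < Nat.card O := by
          have h2 : Nontrivial O := (Subgroup.nontrivial_iff_ne_bot O).mpr hOne
          exact Finite.one_lt_card
        have h3 : 0 < Nat.card (G ⧸ O) := Nat.card_pos
        nlinarith
      set f : G →* G ⧸ O := QuotientGroup.mk' O with hf
      have hfs : Function.Surjective f := QuotientGroup.mk'_surjective O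
      have hinj := injOn_mk_of_coprime O hOcop P.isPGroup'
      let Pq : Sylow 2 (G ⧸ O) := P.mapSurjective hfs
      have hPq : (Pq : Subgroup (G ⧸ O)) = (P : Subgroup G).map f := rfl
      refine ih _ hcardq (G ⧸ O) rfl (fun h => hfree (involves_of_surjective f hfs h)) Pq ?_ ?_
      · rw [hPq, ← ZS_map_of_injOn f hinj]
        exact hnpc_centralizer_map_coprime O hOcop (P.isPGroup'.to_le inf_le_left) hC
      · rw [hPq, ← JJ_map_of_injOn f hinj]
        exact hnpc_normalizer_map_coprime O hOcop (P.isPGroup'.to_le (JJ_le _ _)) hN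
    -- the family
    let 𝓕 : Set (Subgroup G) := {Q | Q ≤ P ∧ Q ≠ ⊥ ∧ ¬ HasNormalPComplement 2 (normalizer (Q : Set G)) ∧
      WP (p := 2) (P : Subgroup G) Q}
    have hconj : ∀ Q : Subgroup G, IsPGroup 2 Q → Q ≠ ⊥ → ¬ HasNormalPComplement 2 (normalizer (Q : Set G)) →
        ∃ g : G, Q.map (MulAut.conj g).toMonoidHom ∈ 𝓕 ∧
          WP (p := 2) (P : Subgroup G) (Q.map (MulAut.conj g).toMonoidHom) := by
      intro Q hQ hQne hQbad
      obtain ⟨g, h1, h2⟩ := exists_conj_WP P Q hQ
      refine ⟨g, ⟨h1, ?_, fun h3 => hQbad (hnpc_normalizer_conj g h3), h2⟩, h2⟩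
      intro h3
      apply hQne
      have := map_conj_inv_map g Q
      rw [h3] at this
      simpa using this.symm
    have hne : 𝓕.Nonempty := by
      have hfrob : ¬ ∀ Q : Subgroup G, IsPGroup 2 Q → Q ≠ ⊥ → HasNormalPComplement 2 (normalizer (Q : Set G)) :=
        fun hall => hG ((Cfsg.Agent.S0072.result 2).mpr hall)
      push Not at hfrob
      obtain ⟨Q, h1, h2, h3⟩ := hfrob
      obtain ⟨g, h4, -⟩ := hconj Q h1 h2 h3
      exact ⟨_, h4⟩
    -- a maximal member
    obtain ⟨Q, hQ𝓕, hmax⟩ := Set.exists_max_image 𝓕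
      (fun Q => Nat.card ↥((P : Subgroup G) ⊓ normalizer (Q : Set G)) * (Nat.card G + 1) + Nat.card Q)
      (Set.toFinite _) hne
    obtain ⟨hQP, hQne, hQbad, hQWP⟩ := id hQ𝓕
    set H := normalizer (Q : Set G) with hH
    set S : Subgroup G := (P : Subgroup G) ⊓ H with hS
    have hSp : IsPGroup 2 S := P.isPGroup'.to_le inf_le_left
    have hQS : Q ≤ S := le_inf hQP Subgroup.le_normalizer
    have hSne : S ≠ ⊥ := fun h => hQne (le_bot_iff.mp (h ▸ hQS))
    set W := JJ 0 S with hW
    have hWne : W ≠ ⊥ := fun h => ZZ_ne_bot hSp hSne (le_bot_iff.mp (h ▸ ZZ_le_JJ 0 S))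
    have hWp : IsPGroup 2 W := hSp.to_le (JJ_le 0 S)
    have hcardQ : Nat.card Q ≤ Nat.card G := Subgroup.card_le_card_group Q
    -- Claim 1
    have hWgood : HasNormalPComplement 2 (normalizer (W : Set G)) := by
      by_cases hSeq : S = P
      · rw [hW, hSeq]; exact hN
      · by_contra hbad
        have hlt : S < P := lt_of_le_of_ne inf_le_left hSeq
        obtain ⟨x, hxP, hxS, hxN⟩ := Cfsg.Agent.Lib.PGroup.Basic.exists_mem_normalizer_of_lt P.isPGroup' hlt
        set S₁ : Subgroup G := (P : Subgroup G) ⊓ normalizer (S : Set G) with hS₁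
        have hSS₁ : S < S₁ := by
          refine lt_of_le_of_ne (le_inf inf_le_left Subgroup.le_normalizer) ?_
          intro h
          apply hxS
          rw [h]
          exact ⟨hxP, hxN⟩
        have hS₁W : S₁ ≤ normalizer (W : Set G) := by
          intro g hg0
          have hg : g ∈ normalizer (S : Set G) := hg0.2
          rw [Subgroup.mem_normalizer_iff] at hg ⊢
          intro y
          constructor
          · exact conj_mem_JJ (fun z hz => (hg z).mp hz)
          · intro hy
            have hginv : ∀ z ∈ S, g⁻¹ * z * g⁻¹⁻¹ ∈ S := by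
              intro z hz
              apply (hg _).mpr
              simpa [mul_assoc] using hz
            have := conj_mem_JJ (g := g⁻¹) hginv hy
            simpa [mul_assoc] using this
        obtain ⟨g, hg𝓕, hgWP⟩ := hconj W hWp hWne hbad
        have h1 := hmax _ hg𝓕
        have hS₁p : IsPGroup 2 S₁ := P.isPGroup'.to_le inf_le_left
        have h2 := hgWP (S₁.map (MulAut.conj g).toMonoidHom) (hS₁p.map _) (by
          rintro _ ⟨x, hx, rfl⟩
          exact conj_mem_normalizer_map g (hS₁W hx))
        rw [card_map_conj] at h2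
        have h3 : Nat.card S < Nat.card S₁ := Cfsg.Agent.Lib.Thompson.QuadraticStable.card_lt_of_lt hSS₁
        have h4 : (Nat.card S + 1) * (Nat.card G + 1) ≤
            Nat.card ↥((P : Subgroup G) ⊓ normalizer ((W.map (MulAut.conj g).toMonoidHom : Subgroup G) : Set G)) * (Nat.card G + 1) :=
          Nat.mul_le_mul_right _ (by omega)
        have h5 : (Nat.card S + 1) * (Nat.card G + 1) = Nat.card S * (Nat.card G + 1) + Nat.card G + 1 := by ring
        omega
    -- Claim 2
    have hHtop : H = ⊤ := by
      by_contra hHne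
      have hcardH : Nat.card H < n := by
        rw [← hcard]
        exact Cfsg.Agent.Lib.Thompson.QuadraticBase.card_lt_of_ne_top hHne
      have hSpp : IsPGroup 2 (S.subgroupOf H) := hSp.comap_subtype
      obtain ⟨S', hS'⟩ := hSpp.exists_le_sylow
      have hS'card : Nat.card S' ≤ Nat.card S := by
        have h1 := hQWP ((S' : Subgroup H).map H.subtype) (S'.isPGroup'.map _) (Subgroup.map_subtype_le _)
        rwa [Nat.card_congr (Subgroup.equivMapOfInjective (S' : Subgroup H) H.subtype H.subtype_injective).toEquiv.symm] at h1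
      have hSH : S ≤ H := inf_le_right
      have hS'eq : (S' : Subgroup H) = S.subgroupOf H := by
        symm
        apply Subgroup.eq_of_le_of_card_ge hS'
        rwa [Nat.card_congr (Subgroup.subgroupOfEquivOfLe hSH).toEquiv]
      have hmap : (S' : Subgroup H).map H.subtype = S := by
        rw [hS'eq, Subgroup.subgroupOf_map_subtype, inf_of_le_left hSH]
      have hZS : ZS (P : Subgroup G) ≤ S := by
        intro z hz
        obtain ⟨hz1, hz2⟩ := Subgroup.mem_inf.mp hz
        refine Subgroup.mem_inf.mpr ⟨hz1, ?_⟩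
        exact Subgroup.centralizer_le_normalizer _ (Subgroup.centralizer_le hQP hz2)
      obtain ⟨h1, h2⟩ := restrict_hyp (P : Subgroup G) S' hmap hZS inf_le_left hC hWgood
      exact hQbad (ih _ hcardH H rfl (fun h => hfree (involves_of_injective H.subtype H.subtype_injective h)) S' h1 h2)
    have hQn : Q.Normal := Subgroup.normalizer_eq_top_iff.mp hHtop
    have hSeqP : S = P := by rw [hS, hHtop, inf_top_eq]
    -- Claim 3
    let f : G →* G ⧸ Q := QuotientGroup.mk' Q
    have hf : Function.Surjective f := QuotientGroup.mk'_surjective Q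
    have hcardq : Nat.card (G ⧸ Q) < n := by
      rw [← hcard, Subgroup.card_eq_card_quotient_mul_card_subgroup Q]
      have h1 : 1 < Nat.card Q := by
        have h2 : Nontrivial Q := (Subgroup.nontrivial_iff_ne_bot Q).mpr hQne
        exact Finite.one_lt_card
      have h3 : 0 < Nat.card (G ⧸ Q) := Nat.card_pos
      nlinarith
    let Pq : Sylow 2 (G ⧸ Q) := P.mapSurjective hf
    have hPq : (Pq : Subgroup (G ⧸ Q)) = (P : Subgroup G).map f := rfl
    have hinfP : ∀ U : Subgroup G, (P : Subgroup G) ≤ normalizer (U : Set G) →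
        (P : Subgroup G) ⊓ normalizer (U : Set G) = P := fun U hU => inf_of_le_left hU
    -- overgroups of `Q` normalized by `P` have good normalizers
    have hgoodU : ∀ U₁ : Subgroup G, Q ≤ U₁ → U₁ ≤ P → (P : Subgroup G) ≤ normalizer (U₁ : Set G) → U₁ ≠ Q →
        HasNormalPComplement 2 (normalizer (U₁ : Set G)) := by
      intro U₁ hQU hUP hPU hneQ
      by_contra hbad
      have hU₁ne : U₁ ≠ ⊥ := fun h => hQne (le_bot_iff.mp (h ▸ hQU))
      have hU₁𝓕 : U₁ ∈ 𝓕 := by
        refine ⟨hUP, hU₁ne, hbad, ?_⟩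
        intro R hR _
        rw [hinfP U₁ hPU]
        obtain ⟨P₂, hP₂⟩ := hR.exists_le_sylow
        calc Nat.card R ≤ Nat.card P₂ := Subgroup.card_le_of_le hP₂
          _ = Nat.card P := (Sylow.card_eq_multiplicity P₂).trans (Sylow.card_eq_multiplicity P).symm
      have h1 := hmax _ hU₁𝓕
      rw [hinfP U₁ hPU] at h1
      have h1' : Nat.card ↥((P : Subgroup G) ⊓ normalizer (Q : Set G)) = Nat.card P := by
        rw [← hH, ← hS, hSeqP]
      rw [h1'] at h1
      have h2 : Nat.card U₁ ≤ Nat.card Q := by omega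
      exact hneQ (Subgroup.eq_of_le_of_card_ge hQU h2).symm
    have hlift : ∀ U : Subgroup (G ⧸ Q), U ≤ (Pq : Subgroup (G ⧸ Q)) →
        (∀ g ∈ (Pq : Subgroup (G ⧸ Q)), ∀ y ∈ U, g * y * g⁻¹ ∈ U) → U ≠ ⊥ →
        HasNormalPComplement 2 (normalizer (U : Set (G ⧸ Q))) := by
      intro U hUP hUinv hUne
      apply hnpc_normalizer_of_comap hf U
      set U₁ := U.comap f with hU₁
      have hQU : Q ≤ U₁ := by
        intro x hx
        rw [hU₁, Subgroup.mem_comap]
        have : f x = 1 := (QuotientGroup.eq_one_iff x).mpr hx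
        rw [this]
        exact Subgroup.one_mem _
      have hUP₁ : U₁ ≤ P := by
        intro x hx
        have h1 : f x ∈ (P : Subgroup G).map f := hUP hx
        obtain ⟨y, hy, hyx⟩ := h1
        have h2 : y⁻¹ * x ∈ Q := by
          have : (y : G ⧸ Q) = x := hyx
          exact QuotientGroup.eq.mp this
        have h3 : x = y * (y⁻¹ * x) := by group
        rw [h3]
        exact (P : Subgroup G).mul_mem hy (hQP h2)
      have hPN : (P : Subgroup G) ≤ normalizer (U₁ : Set G) := by
        intro g hg
        rw [Subgroup.mem_normalizer_iff]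
        have key : ∀ g ∈ (P : Subgroup G), ∀ y ∈ U₁, g * y * g⁻¹ ∈ U₁ := by
          intro g hg y hy
          rw [hU₁, Subgroup.mem_comap, map_mul, map_mul, map_inv]
          exact hUinv _ ⟨g, hg, rfl⟩ _ hy
        intro y
        refine ⟨key g hg y, fun hy => ?_⟩
        have := key g⁻¹ ((P : Subgroup G).inv_mem hg) _ hy
        simpa [mul_assoc] using this
      refine hgoodU U₁ hQU hUP₁ hPN ?_
      intro h
      apply hUne
      have h2 : U₁.map f = U := Subgroup.map_comap_eq_self_of_surjective hf U
      rw [← h2, h, Subgroup.map_eq_bot_iff]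
      intro x hx
      exact (QuotientGroup.eq_one_iff x).mpr hx
    have hquot : HasNormalPComplement 2 (G ⧸ Q) := by
      by_cases hPqbot : (Pq : Subgroup (G ⧸ Q)) = ⊥
      · have hcop : (Nat.card (G ⧸ Q)).Coprime 2 := by
          have h4 := Pq.not_dvd_index
          rw [hPqbot, Subgroup.index_bot] at h4
          exact ((Nat.Prime.coprime_iff_not_dvd Nat.prime_two).mpr h4).symm
        refine hasNormalPComplement_iff.mpr ⟨⊤, inferInstance, ?_, ?_⟩
        · rwa [Subgroup.card_top]
        · haveI : Subsingleton ((G ⧸ Q) ⧸ (⊤ : Subgroup (G ⧸ Q))) := QuotientGroup.subsingleton_quotient_top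
          exact IsPGroup.of_card (n := 0) (by simp)
      · refine ih _ hcardq (G ⧸ Q) rfl (fun h => hfree (involves_of_surjective f hf h)) Pq ?_ ?_
        · have h1 := hlift (ZS (Pq : Subgroup (G ⧸ Q))) inf_le_left (by
            intro g hg y hy
            obtain ⟨hy1, hy2⟩ := Subgroup.mem_inf.mp hy
            have h2 := Subgroup.mem_centralizer_iff.mp hy2 g hg
            have h3 : g * y * g⁻¹ = y := by rw [h2]; group
            rw [h3]
            exact hy) (ZS_ne_bot Pq.isPGroup' hPqbot)
          exact HasNormalPComplement_of_injective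
            (Subgroup.inclusion (Subgroup.centralizer_le_normalizer _))
            (Subgroup.inclusion_injective _) h1
        · refine hlift (JJ 0 (Pq : Subgroup (G ⧸ Q))) (JJ_le _ _) ?_ ?_
          · intro g hg y hy
            exact conj_mem_JJ (fun z hz => (Pq : Subgroup (G ⧸ Q)).mul_mem
              ((Pq : Subgroup (G ⧸ Q)).mul_mem hg hz) ((Pq : Subgroup (G ⧸ Q)).inv_mem hg)) hy
          · exact fun h => ZZ_ne_bot Pq.isPGroup' hPqbot (le_bot_iff.mp (h ▸ ZZ_le_JJ 0 _))
    -- conclusion
    have hQp : IsPGroup 2 Q := P.isPGroup'.to_le hQP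
    have hsol : Cfsg.IsPSolvable 2 G :=
      Cfsg.Agent.Lib.Coprime.PSolvable.isPSolvable_of_normal_good Q (Or.inl (IsPGroup.iff_card.mp hQp))
        (isPSolvable_of_hnpc hquot)
    exact hG (hnpc_of_core hsol hO P hC hN hfree)

end Cfsg.Agent.Lib.SFour.Main
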